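import Groth.Agent.FlatX.Algebra
import Groth.Agent.MeroX.Basic
import Groth.Prelude.Def_BlowUp2
import Mathlib.AlgebraicGeometry.Morphisms.Flat
import Mathlib.AlgebraicGeometry.IdealSheaf.Subscheme

/-!
Relative effective Cartier divisors and flatness, in affine charts.
-/

universe u

open CategoryTheory AlgebraicGeometry Groth.Agent.MeroX

namespace Groth.Agent.FlatX

variable {X S : Scheme.{u}}

/-- The ideal of `I` on `U` is generated by one nonzerodivisor. -/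
def LocGen (I : X.IdealSheafData) (U : X.affineOpens) : Prop :=
  ∃ a ∈ nonZeroDivisors Γ(X, U.1), I.ideal U = Ideal.span {a}

lemma LocGen.basicOpen {I : X.IdealSheafData} {U : X.affineOpens} (h : LocGen I U) (r : Γ(X, U.1)) :
    LocGen I (X.affineBasicOpen r) := by
  obtain ⟨a, ha, hI⟩ := h
  haveI := U.2.isLocalization_basicOpen r
  refine ⟨X.presheaf.map (homOfLE (X.basicOpen_le r)).op a,
    nonZeroDivisors_map (A := Γ(X, U.1)) (S := Γ(X, X.basicOpen r)) (Submonoid.powers r) ha, ?_⟩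
  refine (I.map_ideal_basicOpen U r).symm.trans ?_
  rw [hI, Ideal.map_span, Set.image_singleton]
  rfl

lemma exists_locGen {I : X.IdealSheafData} (hI : BlowUp.IsEffCartierIdeal I) {x : X} {O : X.Opens}
    (hx : x ∈ O) : ∃ U : X.affineOpens, x ∈ U.1 ∧ U.1 ≤ O ∧ LocGen I U := by
  obtain ⟨U, hxU, hU⟩ := hI x
  obtain ⟨r, hr, hxr⟩ := U.2.exists_basicOpen_le (V := O) ⟨x, hx⟩ hxU
  exact ⟨X.affineBasicOpen r, hxr, hr, LocGen.basicOpen hU r⟩

lemma exists_locGen₂ {I J : X.IdealSheafData} (hI : BlowUp.IsEffCartierIdeal I)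
    (hJ : BlowUp.IsEffCartierIdeal J) {x : X} {O : X.Opens} (hx : x ∈ O) :
    ∃ U : X.affineOpens, x ∈ U.1 ∧ U.1 ≤ O ∧ LocGen I U ∧ LocGen J U := by
  obtain ⟨V, hxV, hVO, hVJ⟩ := exists_locGen hJ hx
  obtain ⟨U, hxU, hUV, hUI⟩ := exists_locGen hI hxV
  obtain ⟨g, g', e, hxg⟩ := exists_basicOpen_le_affine_inter U.2 V.2 x ⟨hxU, hxV⟩
  refine ⟨X.affineBasicOpen g, hxg, (X.basicOpen_le g).trans (hUV.trans hVO), LocGen.basicOpen hUI g, ?_⟩
  have : X.affineBasicOpen g = X.affineBasicOpen g' := Subtype.ext e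
  exact this ▸ LocGen.basicOpen hVJ g'

lemma exists_chart (f : X ⟶ S) (x : X) :
    ∃ W : S.affineOpens, x ∈ f ⁻¹ᵁ W.1 := by
  obtain ⟨_, ⟨W, hW, rfl⟩, hxW, -⟩ :=
    S.isBasis_affineOpens.exists_subset_of_mem_open (Set.mem_univ (f x)) isOpen_univ
  exact ⟨⟨W, hW⟩, hxW⟩

/-- Ring map describing a closed subscheme over a chart. -/
noncomputable abbrev quotApp (f : X ⟶ S) (I : X.IdealSheafData) (W : S.affineOpens) (U : X.affineOpens)
    (e : U.1 ≤ f ⁻¹ᵁ W.1) : Γ(S, W.1) →+* Γ(X, U.1) ⧸ I.ideal U :=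
  (Ideal.Quotient.mk (I.ideal U)).comp (f.appLE W.1 U.1 e).hom

lemma appLE_subscheme (f : X ⟶ S) (I : X.IdealSheafData) (W : S.affineOpens) (U : X.affineOpens)
    (e : U.1 ≤ f ⁻¹ᵁ W.1) :
    ((I.subschemeι ≫ f).appLE W.1 (I.subschemeι ⁻¹ᵁ U.1) (fun _ hy => e hy)).hom.Flat ↔
      (quotApp f I W U e).Flat := by
  let ψ := (RingHom.quotientKerEquivOfSurjective (I.subschemeι_app_surjective U))
  have h1 : ((I.subschemeι ≫ f).appLE W.1 (I.subschemeι ⁻¹ᵁ U.1) (fun _ hy => e hy)).hom =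
      ((ψ : _ →+* _).comp (Ideal.quotEquivOfEq (I.ker_subschemeι_app U)).symm.toRingHom).comp
        (quotApp f I W U e) := by
    rw [show (I.subschemeι ≫ f).appLE W.1 (I.subschemeι ⁻¹ᵁ U.1) (fun _ hy => e hy) =
      f.appLE W.1 U.1 e ≫ I.subschemeι.app U.1 by
        rw [Scheme.Hom.app_eq_appLE, Scheme.Hom.appLE_comp_appLE]]
    ext y
    rfl
  rw [h1]
  let E := (Ideal.quotEquivOfEq (I.ker_subschemeι_app U)).symm.trans ψ
  refine ⟨fun h => ?_, fun h => RingHom.Flat.respectsIso.1 _ E h⟩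
  have h' := RingHom.Flat.respectsIso.1 _ E.symm h
  convert h' using 1
  ext y
  exact (E.symm_apply_apply _).symm

lemma flat_quotApp (f : X ⟶ S) (I : X.IdealSheafData) (h : Flat (I.subschemeι ≫ f)) (W : S.affineOpens)
    (U : X.affineOpens) (e : U.1 ≤ f ⁻¹ᵁ W.1) : (quotApp f I W U e).Flat :=
  (appLE_subscheme f I W U e).mp
    (HasRingHomProperty.appLE @Flat (I.subschemeι ≫ f) h W ⟨_, U.2.preimage I.subschemeι⟩ _)

lemma flat_congr {R B : Type u} [CommRing R] [CommRing B] (φ : R →+* B) {I J : Ideal B} (h : I = J)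
    (hf : ((Ideal.Quotient.mk I).comp φ).Flat) : ((Ideal.Quotient.mk J).comp φ).Flat := by
  subst h; exact hf

lemma flat_subscheme_of_charts (f : X ⟶ S) (I : X.IdealSheafData)
    (h : ∀ x : X, ∃ (W : S.affineOpens) (U : X.affineOpens) (e : U.1 ≤ f ⁻¹ᵁ W.1),
      x ∈ U.1 ∧ (quotApp f I W U e).Flat) : Flat (I.subschemeι ≫ f) := by
  rw [HasRingHomProperty.iff_exists_appLE (P := @Flat)
    (RingHom.Flat.stableUnderComposition.stableUnderCompositionWithLocalizationAway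
      RingHom.Flat.holdsForLocalizationAway).left]
  intro d
  obtain ⟨W, U, e, hdU, hflat⟩ := h (I.subschemeι d)
  exact ⟨W, ⟨_, U.2.preimage I.subschemeι⟩, hdU, fun _ hy => e hy,
    (appLE_subscheme f I W U e).mpr hflat⟩

theorem flat_mul (f : X ⟶ S) {I J : X.IdealSheafData} (hI : BlowUp.IsEffCartierIdeal I)
    (hJ : BlowUp.IsEffCartierIdeal J) (fI : Flat (I.subschemeι ≫ f)) (fJ : Flat (J.subschemeι ≫ f)) :
    BlowUp.IsEffCartierIdeal (I * J) ∧ Flat ((I * J).subschemeι ≫ f) := by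
  have key : ∀ x : X, ∃ (W : S.affineOpens) (U : X.affineOpens) (e : U.1 ≤ f ⁻¹ᵁ W.1),
      x ∈ U.1 ∧ LocGen (I * J) U ∧ (quotApp f (I * J) W U e).Flat := by
    intro x
    obtain ⟨W, hxW⟩ := exists_chart f x
    obtain ⟨U, hxU, e, ⟨a, ha, hIa⟩, ⟨b, hb, hJb⟩⟩ := exists_locGen₂ hI hJ hxW
    have hIJ : (I * J).ideal U = Ideal.span {a * b} := by
      rw [Scheme.IdealSheafData.ideal_mul, Pi.mul_apply, hIa, hJb, Ideal.span_singleton_mul_span_singleton]
    refine ⟨W, U, e, hxU, ⟨a * b, mul_mem ha hb, hIJ⟩, ?_⟩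
    have h1 := flat_congr _ hIa (flat_quotApp f I fI W U e)
    have h2 := flat_congr _ hJb (flat_quotApp f J fJ W U e)
    refine flat_congr _ hIJ.symm ?_
    letI := (f.appLE W.1 U.1 e).hom.toAlgebra
    exact RingHom.flat_algebraMap_iff.mpr
      (flat_quot_mul ha (RingHom.flat_algebraMap_iff.mp h1) (RingHom.flat_algebraMap_iff.mp h2))
  refine ⟨fun x => ?_, flat_subscheme_of_charts f _ fun x => ?_⟩
  · obtain ⟨W, U, e, hxU, hg, -⟩ := key x
    exact ⟨U, hxU, hg⟩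
  · obtain ⟨W, U, e, hxU, -, hf⟩ := key x
    exact ⟨W, U, e, hxU, hf⟩

theorem flat_cancel (f : X ⟶ S) {I J K : X.IdealSheafData} (hI : BlowUp.IsEffCartierIdeal I)
    (hK : BlowUp.IsEffCartierIdeal K) (fI : Flat (I.subschemeι ≫ f)) (fJ : Flat (J.subschemeι ≫ f))
    (h : I * K = J) : Flat (K.subschemeι ≫ f) := by
  refine flat_subscheme_of_charts f _ fun x => ?_
  obtain ⟨W, hxW⟩ := exists_chart f x
  obtain ⟨U, hxU, e, ⟨a, ha, hIa⟩, ⟨b, hb, hKb⟩⟩ := exists_locGen₂ hI hK hxW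
  refine ⟨W, U, e, hxU, ?_⟩
  have hJab : J.ideal U = Ideal.span {a * b} := by
    rw [← h, Scheme.IdealSheafData.ideal_mul, Pi.mul_apply, hIa, hKb,
      Ideal.span_singleton_mul_span_singleton]
  have h1 := flat_congr _ hIa (flat_quotApp f I fI W U e)
  have h2 := flat_congr _ hJab (flat_quotApp f J fJ W U e)
  refine flat_congr _ hKb.symm ?_
  letI := (f.appLE W.1 U.1 e).hom.toAlgebra
  exact RingHom.flat_algebraMap_iff.mpr
    (flat_quot_cancel ha (RingHom.flat_algebraMap_iff.mp h1) (RingHom.flat_algebraMap_iff.mp h2))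

lemma flat_appLE_germ (f : X ⟶ S) (W : S.affineOpens) (U : X.Opens) (e : U ≤ f ⁻¹ᵁ W.1) {x : X}
    (hx : x ∈ U) (h : (f.stalkMap x).hom.Flat) :
    ((X.presheaf.germ U x hx).hom.comp (f.appLE W.1 U e).hom).Flat := by
  have hWs : (S.presheaf.germ W.1 (f x) (e hx)).hom.Flat := by
    letI := S.presheaf.algebra_section_stalk ⟨f x, e hx⟩
    haveI := W.2.isLocalization_stalk ⟨f x, e hx⟩
    rw [← RingHom.algebraMap_toAlgebra (S.presheaf.germ W.1 (f x) (e hx)).hom,
      RingHom.flat_algebraMap_iff]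
    exact IsLocalization.flat _ (W.2.primeIdealOf ⟨f x, e hx⟩).asIdeal.primeCompl
  have h2 : (X.presheaf.germ U x hx).hom.comp (f.appLE W.1 U e).hom =
      (f.stalkMap x).hom.comp (S.presheaf.germ W.1 (f x) (e hx)).hom := by
    rw [← CommRingCat.hom_comp, ← CommRingCat.hom_comp, Scheme.Hom.germ_stalkMap,
      Scheme.Hom.appLE, Category.assoc, TopCat.Presheaf.germ_res]
  rw [h2]
  exact RingHom.Flat.comp hWs h

theorem flat_of_flat_away (f : X ⟶ S) {I : X.IdealSheafData} (hI : BlowUp.IsEffCartierIdeal I)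
    (fI : Flat (I.subschemeι ≫ f)) (hflat : ∀ x : X, x ∉ I.support → (f.stalkMap x).hom.Flat) :
    Flat f := by
  rw [HasRingHomProperty.iff_exists_appLE (P := @Flat)
    (RingHom.Flat.stableUnderComposition.stableUnderCompositionWithLocalizationAway
      RingHom.Flat.holdsForLocalizationAway).left]
  intro x
  obtain ⟨W, hxW⟩ := exists_chart f x
  obtain ⟨U, hxU, e, a, ha, hIa⟩ := exists_locGen hI hxW
  refine ⟨W, U, hxU, e, ?_⟩
  have h1 := flat_congr _ hIa (flat_quotApp f I fI W U e)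
  letI := (f.appLE W.1 U.1 e).hom.toAlgebra
  refine RingHom.flat_algebraMap_iff.mpr (flat_of_nzd a ha (RingHom.flat_algebraMap_iff.mp h1) ?_)
  intro q hq
  let y : X := U.2.fromSpec q
  have hy : y ∈ U.1 := by
    rw [← SetLike.mem_coe, ← U.2.range_fromSpec]; exact ⟨q, rfl⟩
  have hyq : U.2.primeIdealOf ⟨y, hy⟩ = q := U.2.fromSpec.isOpenEmbedding.injective
    (U.2.fromSpec_primeIdealOf ⟨y, hy⟩)
  have hyI : y ∉ I.support := by
    rw [Scheme.IdealSheafData.mem_support_iff_of_mem (U := U) hy, hIa, Scheme.zeroLocus_span,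
      Scheme.mem_zeroLocus_iff]
    push Not
    refine ⟨a, rfl, ?_⟩
    rw [show y = U.2.fromSpec q from rfl, ← Scheme.Hom.mem_preimage, U.2.fromSpec_preimage_basicOpen]
    exact hq
  letI := X.presheaf.algebra_section_stalk ⟨y, hy⟩
  haveI := U.2.isLocalization_stalk ⟨y, hy⟩
  have hloc : ∀ q' : PrimeSpectrum Γ(X, U.1), q' = U.2.primeIdealOf ⟨y, hy⟩ →
      IsLocalization.AtPrime (X.presheaf.stalk y) q'.asIdeal := by
    rintro q' rfl; infer_instance
  haveI : IsLocalization.AtPrime (X.presheaf.stalk y) q.asIdeal := hloc q hyq.symm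
  letI : Algebra Γ(S, W.1) (X.presheaf.stalk y) :=
    ((X.presheaf.germ U.1 y hy).hom.comp (f.appLE W.1 U.1 e).hom).toAlgebra
  haveI : IsScalarTower Γ(S, W.1) Γ(X, U.1) (X.presheaf.stalk y) :=
    IsScalarTower.of_algebraMap_eq fun _ => rfl
  haveI : Module.Flat Γ(S, W.1) (X.presheaf.stalk y) :=
    flat_appLE_germ f W U.1 e hy (hflat y hyI)
  exact Module.Flat.of_linearEquiv ((IsLocalization.algEquiv q.asIdeal.primeCompl
    (Localization.AtPrime q.asIdeal) (X.presheaf.stalk y)).toLinearEquiv.restrictScalars _)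

theorem flat_stalkMap_of_noetherian (f : X ⟶ S) {I : X.IdealSheafData}
    (hI : BlowUp.IsEffCartierIdeal I) (fI : Flat (I.subschemeι ≫ f)) {x : X} (hx : x ∈ I.support)
    [IsNoetherianRing (X.presheaf.stalk x)] : (f.stalkMap x).hom.Flat := by
  obtain ⟨W, hxW⟩ := exists_chart f x
  obtain ⟨U, hxU, e, a, ha, hIa⟩ := exists_locGen hI hxW
  have h1 := flat_congr _ hIa (flat_quotApp f I fI W U e)
  letI := (f.appLE W.1 U.1 e).hom.toAlgebra
  letI := X.presheaf.algebra_section_stalk ⟨x, hxU⟩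
  haveI := U.2.isLocalization_stalk ⟨x, hxU⟩
  letI : Algebra Γ(S, W.1) (X.presheaf.stalk x) :=
    ((X.presheaf.germ U.1 x hxU).hom.comp (f.appLE W.1 U.1 e).hom).toAlgebra
  haveI : IsScalarTower Γ(S, W.1) Γ(X, U.1) (X.presheaf.stalk x) :=
    IsScalarTower.of_algebraMap_eq fun _ => rfl
  have hq := flat_quot_atPrime (Ideal.span {a}) (U.2.primeIdealOf ⟨x, hxU⟩).asIdeal
    (X.presheaf.stalk x) (RingHom.flat_algebraMap_iff.mp h1)
  rw [Ideal.map_span, Set.image_singleton] at hq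
  have hflat : Module.Flat Γ(S, W.1) (X.presheaf.stalk x) := by
    refine flat_of_quot_flat_noetherian (nonZeroDivisors_map
      (U.2.primeIdealOf ⟨x, hxU⟩).asIdeal.primeCompl ha) ?_ hq
    rw [IsLocalRing.jacobson_eq_maximalIdeal ⊥ bot_ne_top, IsLocalRing.mem_maximalIdeal, mem_nonunits_iff]
    rw [Scheme.IdealSheafData.mem_support_iff_of_mem (U := U) hxU, hIa, Scheme.zeroLocus_span,
      Scheme.mem_zeroLocus_iff] at hx
    exact fun hu => hx a rfl ((Scheme.mem_basicOpen _ _ _ hxU).mpr hu)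
  letI := S.presheaf.algebra_section_stalk ⟨f x, hxW⟩
  haveI := W.2.isLocalization_stalk ⟨f x, hxW⟩
  letI := (f.stalkMap x).hom.toAlgebra
  haveI : IsScalarTower Γ(S, W.1) (S.presheaf.stalk (f x)) (X.presheaf.stalk x) := by
    refine IsScalarTower.of_algebraMap_eq fun w => ?_
    change X.presheaf.germ U.1 x hxU (f.appLE W.1 U.1 e w) = f.stalkMap x (S.presheaf.germ W.1 (f x) hxW w)
    rw [Scheme.Hom.germ_stalkMap_apply, Scheme.Hom.appLE, CommRingCat.comp_apply,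
      TopCat.Presheaf.germ_res_apply]
  exact (Module.flat_iff_of_isLocalization (S.presheaf.stalk (f x))
    (W.2.primeIdealOf ⟨f x, hxW⟩).asIdeal.primeCompl _).mpr hflat

end Groth.Agent.FlatX
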