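import Groth.Agent.CAlgUI.Flat
import Groth.Agent.LocalCrit.Flatness
import Mathlib.RingTheory.Flat.Equalizer
import Mathlib.RingTheory.Flat.Localization
import Mathlib.RingTheory.Flat.Stability
import Mathlib.RingTheory.Localization.BaseChange
import Mathlib.RingTheory.Localization.Ideal

/-!
Flatness of an algebra along a nonzerodivisor.
-/

universe u

open TensorProduct

namespace Groth.Agent.FlatX

variable {A B : Type u} [CommRing A] [CommRing B] [Algebra A B]

section seq

variable (a b : B)

/-- Multiplication by `a` from `B/(b)` to `B/(a*b)`. -/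
noncomputable def mulQ : (B ⧸ Ideal.span {b}) →ₗ[B] (B ⧸ Ideal.span {a * b}) :=
  Submodule.mapQ _ _ (LinearMap.mulLeft B a) <| by
    rw [Ideal.span, Submodule.span_le, Set.singleton_subset_iff]
    exact Ideal.mem_span_singleton_self (a * b)

lemma mulQ_mk (x : B) : mulQ a b (Ideal.Quotient.mk _ x) = Ideal.Quotient.mk _ (a * x) := rfl

/-- The projection from `B/(a*b)` to `B/(a)`. -/
noncomputable def projQ : (B ⧸ Ideal.span {a * b}) →ₗ[B] (B ⧸ Ideal.span {a}) :=
  Submodule.factor <| Ideal.span_singleton_le_span_singleton.mpr ⟨b, rfl⟩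

lemma projQ_surjective : Function.Surjective (projQ a b) :=
  Submodule.factor_surjective (Ideal.span_singleton_le_span_singleton.mpr ⟨b, rfl⟩)

lemma mulQ_injective (ha : a ∈ nonZeroDivisors B) : Function.Injective (mulQ a b) := by
  rw [injective_iff_map_eq_zero]
  intro x hx
  obtain ⟨x, rfl⟩ := Ideal.Quotient.mk_surjective x
  rw [mulQ_mk, Ideal.Quotient.eq_zero_iff_mem, Ideal.mem_span_singleton] at hx
  obtain ⟨c, hc⟩ := hx
  rw [Ideal.Quotient.eq_zero_iff_mem, Ideal.mem_span_singleton]
  exact ⟨c, (mul_cancel_left_mem_nonZeroDivisors ha).mp (hc.trans (mul_assoc a b c))⟩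

lemma exact_seq : Function.Exact (mulQ a b) (projQ a b) := by
  intro y
  obtain ⟨y, rfl⟩ := Ideal.Quotient.mk_surjective y
  constructor
  · intro hy
    have h1 : (Ideal.Quotient.mk (Ideal.span {a}) y) = 0 := hy
    obtain ⟨c, rfl⟩ := Ideal.mem_span_singleton.mp (Ideal.Quotient.eq_zero_iff_mem.mp h1)
    exact ⟨Ideal.Quotient.mk _ c, rfl⟩
  · rintro ⟨x, hx⟩
    obtain ⟨x, rfl⟩ := Ideal.Quotient.mk_surjective x
    rw [← hx]
    change Ideal.Quotient.mk (Ideal.span {a}) (a * x) = 0
    exact Ideal.Quotient.eq_zero_iff_mem.mpr (Ideal.mul_mem_right _ _ (Ideal.mem_span_singleton_self a))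

variable {a b}

lemma flat_quot_mul (ha : a ∈ nonZeroDivisors B) (h₁ : Module.Flat A (B ⧸ Ideal.span {a}))
    (h₂ : Module.Flat A (B ⧸ Ideal.span {b})) : Module.Flat A (B ⧸ Ideal.span {a * b}) :=
  CAlgUI.flat_middle (f := (mulQ a b).restrictScalars A) (g := (projQ a b).restrictScalars A)
    (mulQ_injective a b ha) (exact_seq a b) (projQ_surjective a b)

lemma flat_quot_cancel (ha : a ∈ nonZeroDivisors B) (h₁ : Module.Flat A (B ⧸ Ideal.span {a}))
    (h₂ : Module.Flat A (B ⧸ Ideal.span {a * b})) : Module.Flat A (B ⧸ Ideal.span {b}) :=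
  CAlgUI.flat_left_of_ui (f := (mulQ a b).restrictScalars A)
    (CAlgUI.ui_of_flat_quotient (g := (projQ a b).restrictScalars A)
      (mulQ_injective a b ha) (exact_seq a b) (projQ_surjective a b))

lemma flat_quot_pow (ha : a ∈ nonZeroDivisors B) (h : Module.Flat A (B ⧸ Ideal.span {a})) (n : ℕ) :
    Module.Flat A (B ⧸ Ideal.span {a ^ (n + 1)}) := by
  induction n with
  | zero => rw [zero_add, pow_one]; exact h
  | succ n ih => rw [pow_succ']; exact flat_quot_mul ha h ih

lemma flat_of_quot_flat_noetherian [IsNoetherianRing B] (ha : a ∈ nonZeroDivisors B)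
    (hj : a ∈ Ideal.jacobson (⊥ : Ideal B)) (h : Module.Flat A (B ⧸ Ideal.span {a})) :
    Module.Flat A B := by
  refine LocalCrit.flat_of_forall_flat_quotient_pow (Ideal.span {a})
    ((Ideal.span_singleton_le_iff_mem _).mpr hj) fun n => ?_
  haveI := flat_quot_pow ha h n
  refine Module.Flat.of_linearEquiv
    ((Submodule.quotEquivOfEq _ (Ideal.span {a ^ (n + 1)}) ?_).restrictScalars A)
  simp [smul_eq_mul, Ideal.span_singleton_pow]

end seq

lemma flat_quot_atPrime (I : Ideal B) (p : Ideal B) [p.IsPrime] (Bp : Type u) [CommRing Bp]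
    [Algebra A Bp] [Algebra B Bp] [IsScalarTower A B Bp] [IsLocalization.AtPrime Bp p]
    (h : Module.Flat A (B ⧸ I)) : Module.Flat A (Bp ⧸ I.map (algebraMap B Bp)) := by
  haveI : IsScalarTower A (B ⧸ I) (Bp ⧸ I.map (algebraMap B Bp)) := by
    refine IsScalarTower.of_algebraMap_eq fun x => ?_
    change _ = Ideal.Quotient.mk _ (algebraMap B Bp (algebraMap A B x))
    rw [← IsScalarTower.algebraMap_apply]
    rfl
  haveI : Module.Flat (B ⧸ I) (Bp ⧸ I.map (algebraMap B Bp)) :=
    IsLocalization.flat _ (Algebra.algebraMapSubmonoid (B ⧸ I) p.primeCompl)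
  exact Module.Flat.trans A (B ⧸ I) _

open scoped nonZeroDivisors in
lemma flat_of_nzd (a : B) (ha : a ∈ B⁰) (h : Module.Flat A (B ⧸ Ideal.span {a}))
    (hq : ∀ q : PrimeSpectrum B, a ∉ q.asIdeal → Module.Flat A (Localization.AtPrime q.asIdeal)) :
    Module.Flat A B := by
  rw [Module.Flat.iff_lTensor_injectiveₛ]
  intro P _ _ N
  letI : AddCommGroup P := Module.addCommMonoidToAddCommGroup A
  letI : AddCommGroup N := Module.addCommMonoidToAddCommGroup A
  rw [← AlgebraTensorModule.coe_lTensor (A := B), injective_iff_map_eq_zero]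
  intro z hz
  let J : Ideal B := LinearMap.ker (LinearMap.toSpanSingleton B (B ⊗[A] N) z)
  have hJ : ∀ b, b ∈ J ↔ b • z = 0 := fun b => LinearMap.mem_ker
  obtain ⟨n, hn⟩ : a ∈ J.radical := by
    rw [Ideal.radical_eq_sInf, Submodule.mem_sInf]
    rintro q ⟨hJq, hqp⟩
    by_contra haq
    haveI := hqp
    haveI := hq ⟨q, hqp⟩ haq
    let L : B →ₗ[B] Localization.AtPrime q := Algebra.linearMap B _
    let zq := AlgebraTensorModule.rTensor A N L z
    have h0 : zq = 0 := by
      refine (injective_iff_map_eq_zero _).mp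
        (Module.Flat.lTensor_preserves_injective_linearMap (M := Localization.AtPrime q) N.subtype
          Subtype.val_injective) zq ?_
      have key : (N.subtype.lTensor (Localization.AtPrime q)) ∘ₗ
          (AlgebraTensorModule.rTensor A N L).restrictScalars A =
          ((AlgebraTensorModule.rTensor A P L).restrictScalars A) ∘ₗ N.subtype.lTensor B := by
        ext b x; rfl
      have := LinearMap.congr_fun key z
      simp only [LinearMap.comp_apply, LinearMap.coe_restrictScalars] at this
      rw [this, show N.subtype.lTensor B z = 0 from hz, map_zero]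
    obtain ⟨s, hs⟩ := (IsLocalizedModule.eq_zero_iff (Ideal.primeCompl q)
      (AlgebraTensorModule.rTensor A N L)).mp h0
    exact s.2 (hJq ((hJ _).mpr hs))
  have hinj : Function.Injective fun w : B ⊗[A] N => a • w := by
    have hl := LinearMap.lTensor_injective_of_exact_of_flat
      ((Ideal.span {a}).mkQ.restrictScalars A) (Submodule.mkQ_surjective _)
      (LinearMap.mulLeft A a)
      (fun x y hxy => (mul_cancel_left_mem_nonZeroDivisors ha).mp hxy)
      (fun x => by
        change (Ideal.span {a}).mkQ x = 0 ↔ x ∈ Set.range (a * ·)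
        rw [Submodule.mkQ_apply, Submodule.Quotient.mk_eq_zero, Ideal.mem_span_singleton]
        exact ⟨fun ⟨c, hc⟩ => ⟨c, hc.symm⟩, fun ⟨c, hc⟩ => ⟨c, hc.symm⟩⟩) N
    have key : ∀ w : B ⊗[A] N, TensorProduct.comm A B N (a • w) =
        (LinearMap.mulLeft A a).lTensor N (TensorProduct.comm A B N w) := by
      intro w
      induction w with
      | zero => simp
      | tmul b x => simp [TensorProduct.smul_tmul']
      | add x y hx hy => rw [smul_add, map_add, hx, hy, map_add, map_add]
    intro v w hvw
    exact (TensorProduct.comm A B N).injective (hl ((key v).symm.trans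
      ((congrArg _ hvw).trans (key w))))
  have hn' : a ^ n • z = 0 := (hJ _).mp hn
  clear hn
  induction n with
  | zero => simpa using hn'
  | succ n ih => exact ih (hinj (by simpa [pow_succ', mul_smul] using hn'))

end Groth.Agent.FlatX
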